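import Groth.Agent.GmVanishLib.FieldPoints
import Groth.Agent.DiagRepLib.Scheme

/-!
# Extending characters after a finite field extension
-/

set_option autoImplicit false
set_option backward.isDefEq.respectTransparency false
set_option linter.style.haveILetI false
set_option maxHeartbeats 1000000
universe u

open CategoryTheory CategoryTheory.Limits AlgebraicGeometry Opposite CoactBr

noncomputable section

namespace GmCharLib

variable {k : Type u} [Field k]

local notation "Jf" => QuotSh.J Scheme.fppfPrecoverage (Spec (CommRingCat.of k))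

/-- A character of a subgroup extends after a finite field extension. -/
theorem exists_over_extension {T : ShortComplex (BigSite.Ab Scheme.fppfPrecoverage (Spec (CommRingCat.of k)))}
    (hT : T.ShortExact) (h₃ : GmVanishLib.LiftsFld T.X₃) (χ : T.X₁ ⟶ GmExtLib.G (Spec (CommRingCat.of k))) :
    ∃ (L : Type u) (_ : Field L) (_ : Algebra k L) (_ : Module.Finite k L)
      (θ : CategoryTheory.Sheaf.over T.X₂ (sp k L) ⟶
        CategoryTheory.Sheaf.over (GmExtLib.G (Spec (CommRingCat.of k))) (sp k L)),
      ((Jf).overPullback AddCommGrpCat.{u + 1} (sp k L)).map T.f ≫ θ =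
        ((Jf).overPullback AddCommGrpCat.{u + 1} (sp k L)).map χ := by
  let S₀ := Spec (CommRingCat.of k)
  let G := GmExtLib.G S₀
  obtain ⟨I, K, i, g, w, hI, hS⟩ : ∃ (I K : BigSite.Ab Scheme.fppfPrecoverage S₀) (i : G ⟶ I) (g : I ⟶ K)
      (w : i ≫ g = 0), Injective I ∧ (ShortComplex.mk i g w).ShortExact :=
    ⟨Injective.under G, cokernel (Injective.ι G), Injective.ι G, cokernel.π _, cokernel.condition _, inferInstance,
      { exact := ShortComplex.exact_cokernel _ }⟩
  haveI := hI
  haveI := hT.mono_f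
  haveI := hT.epi_g
  let β : T.X₂ ⟶ I := Injective.factorThru (χ ≫ i) T.f
  have hβ : T.f ≫ β = χ ≫ i := Injective.comp_factorThru _ _
  have hz : T.f ≫ β ≫ g = 0 := by rw [← Category.assoc, hβ, Category.assoc, w, comp_zero]
  let φ : T.X₃ ⟶ K := hT.exact.desc (β ≫ g) hz
  have hφ : T.g ≫ φ = β ≫ g := hT.exact.g_desc _ hz
  let top0 : Over S₀ := Over.mk (𝟙 S₀)
  let ψ : CategoryTheory.Sheaf.over T.X₃ top0 ⟶ CategoryTheory.Sheaf.over K top0 :=
    ((Jf).overPullback AddCommGrpCat.{u + 1} top0).map φ
  have hcov := h₃ I K i g w hI hS (CommRingCat.of k) (Field.toIsField k) (𝟙 S₀) ψ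
  obtain ⟨A', b', m, hA', hm, hlfp, -⟩ := GmVanishLib.exists_fieldPt (Field.toIsField k) (𝟙 S₀) hcov
  obtain ⟨φ', rfl⟩ := Spec.map_surjective b'
  letI := hA'.toField
  letI : Algebra k A' := φ'.hom.toAlgebra
  haveI : Module.Finite k A' := by
    haveI : LocallyOfFinitePresentation (Spec.map φ') := by
      have e : m.left = Spec.map φ' := (Category.comp_id _).symm.trans (Over.w m)
      rw [← e]; exact hlfp
    have hft : φ'.hom.FiniteType :=
      RingHom.FiniteType.of_finitePresentation ((HasRingHomProperty.Spec_iff (P := @LocallyOfFinitePresentation)).1 ‹_›)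
    haveI : Algebra.FiniteType k A' := hft
    exact finite_of_algHom_finiteType_of_isJacobsonRing (AlgHom.id k A')
  refine ⟨A', inferInstance, inferInstance, inferInstance, ?_⟩
  let U := sp k A'
  let e : U ⟶ Over.mk (Spec.map φ') := Over.homMk (𝟙 _) (Category.id_comp _)
  have hm' : Presheaf.imageSieve (HomSh.homShMap Jf (𝟙 T.X₃) g).hom ψ (e ≫ m) :=
    (Presheaf.imageSieve (HomSh.homShMap Jf (𝟙 T.X₃) g).hom ψ).downward_closed hm e
  obtain ⟨α, hα⟩ := GmVanishLib.exists_of_mem hm'
  let O := (Jf).overPullback AddCommGrpCat.{u + 1} U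
  have hα' : α ≫ O.map g = O.map φ := hα
  have hses := GaBidualLib.shortExact_over Jf hS U
  haveI : Mono (O.map i) := hses.mono_f
  have hzero : (O.map β - O.map T.g ≫ α) ≫ O.map g = 0 := by
    rw [Preadditive.sub_comp, Category.assoc, hα', ← O.map_comp, ← O.map_comp, hφ, sub_self]
  obtain ⟨θ, hθ⟩ := KernelFork.IsLimit.lift' hses.fIsKernel _ hzero
  refine ⟨θ, (cancel_mono (O.map i)).1 ?_⟩
  rw [Category.assoc]
  refine (congrArg (O.map T.f ≫ ·) hθ).trans ?_
  rw [Preadditive.comp_sub, ← Category.assoc, ← O.map_comp, ← O.map_comp, T.zero, O.map_zero, zero_comp, sub_zero, hβ,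
    O.map_comp]

end GmCharLib
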