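import Groth.Agent.AlgSpLib.Fppf
import Groth.Agent.FinHomLib.Affine
import Groth.Agent.QuotRepLib.Restrict
import Groth.Agent.GmVanishLib.Devissage
import Groth.Prelude.Def_CGrpSh2

/-!
# Exact sequences of sheaves from flat surjective homomorphisms
-/

set_option autoImplicit false
set_option backward.isDefEq.respectTransparency false
set_option linter.style.haveILetI false
set_option maxHeartbeats 1000000
universe u

open CategoryTheory CategoryTheory.Limits MonoidalCategory CartesianMonoidalCategory AlgebraicGeometry Opposite MonObj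

noncomputable section

namespace GmCharLib

variable {S : Scheme.{u}}

/-- A flat surjective map of finite presentation is an epimorphism over the base. -/
theorem epi_of_flat {X Y : Over S} (p : X ⟶ Y) [Flat p.left] [Surjective p.left] : Epi p := by
  haveI : Epi p.left := Flat.epi_of_flat_of_surjective p.left
  exact Over.epi_of_epi_left p

/-- The target of a flat surjective homomorphism from a commutative group is commutative. -/
theorem isCommMonObj_of_flat {G P : Over S} [GrpObj G] [IsCommMonObj G] [GrpObj P] (p : G ⟶ P) [IsMonHom p]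
    [Flat p.left] [Surjective p.left] : IsCommMonObj P := by
  haveI h1 : Flat (p ▷ G).left :=
    MorphismProperty.of_isPullback (P := @Flat) (Groth.Agent.QuotRep.isPullback_whiskerRight p G).flip ‹_›
  haveI h2 : Surjective (p ▷ G).left :=
    MorphismProperty.of_isPullback (P := @Surjective) (Groth.Agent.QuotRep.isPullback_whiskerRight p G).flip ‹_›
  haveI h3 : Flat (P ◁ p).left :=
    MorphismProperty.of_isPullback (P := @Flat) (Groth.Agent.FinHom.isPullback_whiskerLeft P p).flip ‹_›
  haveI h4 : Surjective (P ◁ p).left :=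
    MorphismProperty.of_isPullback (P := @Surjective) (Groth.Agent.FinHom.isPullback_whiskerLeft P p).flip ‹_›
  haveI h5 : Flat (p ⊗ₘ p).left := by
    rw [MonoidalCategory.tensorHom_def, Over.comp_left]; infer_instance
  haveI h6 : Surjective (p ⊗ₘ p).left := by
    rw [MonoidalCategory.tensorHom_def, Over.comp_left]; infer_instance
  haveI := epi_of_flat (p ⊗ₘ p)
  refine ⟨(cancel_epi (p ⊗ₘ p)).1 ?_⟩
  rw [← Category.assoc, BraidedCategory.braiding_naturality, Category.assoc, ← IsMonHom.mul_hom,
    IsCommMonObj.mul_comm_assoc]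

variable {H G P : Over S} [GrpObj H] [IsCommMonObj H] [GrpObj G] [IsCommMonObj G] [GrpObj P] [IsCommMonObj P]

/-- A flat surjective homomorphism and its kernel give a short exact sequence of sheaves. -/
theorem shortExact_of_flat (i : H ⟶ G) (p : G ⟶ P) [IsMonHom i] [IsMonHom p] [Mono i] [Flat p.left]
    [Surjective p.left] [LocallyOfFinitePresentation p.left]
    (hker : ∀ (T : Over S) (g : T ⟶ G), g ≫ p = 1 ↔ ∃ l : T ⟶ H, l ≫ i = g) :
    ∃ w : i ≫ p = 1, (CGrpSh.seq Scheme.fppfPrecoverage i p w).ShortExact := by
  let J := QuotSh.J Scheme.fppfPrecoverage S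
  have w : i ≫ p = 1 := (hker H i).2 ⟨𝟙 _, Category.id_comp _⟩
  refine ⟨w, ?_⟩
  have hinj : ∀ T : (Over S)ᵒᵖ, Function.Injective ((CGrpSh.ptsMap Scheme.fppfPrecoverage i).hom.app T) := fun T a b hab =>
    ULift.ext _ _ (congrArg Additive.ofMul
      ((cancel_mono i).1 (congrArg Additive.toMul (congrArg ULift.down hab))))
  haveI : Mono (CGrpSh.seq Scheme.fppfPrecoverage i p w).f := Sheaf.mono_of_injective _ hinj
  haveI : Epi (CGrpSh.seq Scheme.fppfPrecoverage i p w).g := by
    haveI : Presheaf.IsLocallySurjective J (CGrpSh.ptsMap Scheme.fppfPrecoverage p).hom := ⟨fun {T} x => by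
      let x' : T ⟶ P := x.down.toMul
      let c := pullback.fst x'.left p.left
      have hc : c ≫ T.hom = pullback.snd x'.left p.left ≫ G.hom := by
        rw [← Over.w p, ← Over.w x', ← Category.assoc, ← Category.assoc, pullback.condition]
      let E : Over S := Over.mk (c ≫ T.hom)
      let e : E ⟶ T := Over.homMk c rfl
      haveI : Flat c := MorphismProperty.of_isPullback (IsPullback.of_hasPullback x'.left p.left).flip inferInstance
      haveI : Surjective c :=
        MorphismProperty.of_isPullback (P := @Surjective) (IsPullback.of_hasPullback x'.left p.left).flip inferInstance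
      haveI : LocallyOfFinitePresentation c :=
        MorphismProperty.of_isPullback (P := @LocallyOfFinitePresentation)
          (IsPullback.of_hasPullback x'.left p.left).flip inferInstance
      refine GrothendieckTopology.superset_covering _ ?_
        (AlgSpLib.ofArrows_mem_J (fun _ : PUnit.{u + 1} => e) (fun _ => ‹Flat c›)
          (fun _ => ‹LocallyOfFinitePresentation c›) fun t => ⟨PUnit.unit, c.surjective t⟩)
      rw [Sieve.ofArrows, Sieve.generate_le_iff]
      rintro _ _ ⟨⟩
      refine ⟨ULift.up (Additive.ofMul (Over.homMk (pullback.snd x'.left p.left) hc.symm)), ?_⟩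
      refine ULift.ext _ _ (congrArg Additive.ofMul ?_)
      ext1
      exact pullback.condition.symm⟩
    haveI : CategoryTheory.Sheaf.IsLocallySurjective (CGrpSh.ptsMap Scheme.fppfPrecoverage p) := this
    exact (CategoryTheory.Sheaf.isLocallySurjective_iff_epi' AddCommGrpCat.{u + 1} (CGrpSh.ptsMap Scheme.fppfPrecoverage p)).1 this
  refine { exact := ?_ }
  refine ShortComplex.exact_of_f_is_kernel _ (KernelFork.IsLimit.ofι' _ _ fun {Z} h hh => ?_)
  have hex : ∀ (T : (Over S)ᵒᵖ) (x : Z.obj.obj T),
      ∃ y, (CGrpSh.ptsMap Scheme.fppfPrecoverage i).hom.app T y = h.hom.app T x := fun T x => by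
    obtain ⟨l, hl⟩ := (hker T.unop (h.hom.app T x).down.toMul).1
      (congrArg Additive.toMul (congrArg ULift.down (congrArg (fun e => e.hom.app T x) hh)))
    exact ⟨ULift.up (Additive.ofMul l), ULift.ext _ _ (congrArg Additive.ofMul hl)⟩
  choose y hy using hex
  refine ⟨⟨{
    app := fun T => AddCommGrpCat.ofHom (AddMonoidHom.mk' (fun x : Z.obj.obj T => y T x)
      fun x x' => hinj T (((hy T (x + x')).trans (map_add (h.hom.app T).hom x x')).trans
        ((congrArg₂ (· + ·) (hy T x) (hy T x')).symm.trans
          (map_add ((CGrpSh.ptsMap Scheme.fppfPrecoverage i).hom.app T).hom _ _).symm)))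
    naturality := fun T T' φ => AddCommGrpCat.ext fun x => hinj T' ?_ }⟩, ?_⟩
  · refine (hy T' (Z.obj.map φ x)).trans ?_
    refine (NatTrans.naturality_apply h.hom φ x).trans ?_
    refine Eq.trans ?_ (NatTrans.naturality_apply (CGrpSh.ptsMap Scheme.fppfPrecoverage i).hom φ _).symm
    exact congrArg ((CGrpSh.pts Scheme.fppfPrecoverage G).obj.map φ) (hy T x).symm
  · exact Sheaf.hom_ext (NatTrans.ext (funext fun T => AddCommGrpCat.ext fun x => hy T x))

end GmCharLib
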