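import Groth.Agent.GmCharLib.Descend
import Groth.Agent.GmCharLib.Extend
import Groth.Agent.GmCharLib.Kernel
import Groth.Agent.GmVanishLib.FieldAny
import Groth.Agent.S12442

/-!
# Multiples of characters of closed subgroups extend
-/

set_option autoImplicit false
set_option backward.isDefEq.respectTransparency false
set_option linter.style.haveILetI false
set_option maxHeartbeats 1000000
universe u

open CategoryTheory CategoryTheory.Limits MonoidalCategory CartesianMonoidalCategory AlgebraicGeometry Opposite CoactBr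
open scoped MonObj TensorProduct

attribute [local instance] CoactBr.braidedAlgSpecOf
attribute [-instance] CategoryTheory.Hom.commGroup

noncomputable section

namespace GmCharLib

variable {k : Type u} [Field k]

/-- An affine commutative group of finite type has a Hopf algebra of finite type. -/
theorem exists_hopf (G : Over (Spec (CommRingCat.of k))) [GrpObj G] [IsCommMonObj G] [IsAffine G.left]
    [LocallyOfFiniteType G.hom] :
    ∃ (A : Type u) (_ : CommRing A) (_ : HopfAlgebra k A) (_ : Coalgebra.IsCocomm k A) (_ : Algebra.FiniteType k A)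
      (v : sp k A ≅ G), IsMonHom v.hom ∧ IsMonHom v.inv := by
  obtain ⟨A, _, _, v, hv, hv'⟩ := DeligneKillLib.exists_sp G
  haveI := hv; haveI := hv'
  haveI : IsCommMonObj (sp k A) := ExtGm.isCommMonObj_of_mono v.hom
  haveI hA : Coalgebra.IsCocomm k A := ExtGm.isCocomm_of_comm
  haveI hft : Algebra.FiniteType k A := by
    haveI : IsIso v.hom.left := ((Over.forget _).mapIso v).isIso_hom
    have h : LocallyOfFiniteType (sp k A).hom := by rw [← Over.w v.hom]; infer_instance
    exact RingHom.finiteType_algebraMap.1 ((HasRingHomProperty.Spec_iff (P := @LocallyOfFiniteType)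
      (φ := CommRingCat.ofHom (algebraMap k A))).1 h)
  exact ⟨A, inferInstance, inferInstance, hA, hft, v, hv, hv'⟩

/-- Over an affine group the points form a sheaf lifting locally over fields. -/
theorem liftsFld_pts (P : Over (Spec (CommRingCat.of k))) [GrpObj P] [IsCommMonObj P] [IsAffine P.left]
    [LocallyOfFiniteType P.hom] : GmVanishLib.LiftsFld (CGrpSh.pts Scheme.fppfPrecoverage P) := by
  obtain ⟨A, _, _, _, _, v, hv, hv'⟩ := exists_hopf P
  haveI := hv'
  haveI : IsIso v.inv := inferInstance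
  obtain ⟨e⟩ := GmVanishLib.exists_ptsIso v.inv inferInstance
  exact (GmVanishLib.liftsFld_affine A).of_iso e

/-- A positive multiple of a character of a closed subgroup extends to the group. -/
theorem exists_nsmul_extend {H G : Over (Spec (CommRingCat.of k))} [GrpObj H] [IsCommMonObj H] [GrpObj G] [IsCommMonObj G]
    [IsAffine H.left] [LocallyOfFiniteType H.hom] [IsAffine G.left] [LocallyOfFiniteType G.hom] (i : H ⟶ G) [IsMonHom i]
    [IsClosedImmersion i.left]
    (χ : CGrpSh.pts Scheme.fppfPrecoverage H ⟶ CGrpSh2.Gm Scheme.fppfPrecoverage (Spec (CommRingCat.of k))) :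
    ∃ (L : Type u) (_ : Field L) (_ : Algebra k L) (_ : Module.Finite k L)
      (ξ : CGrpSh.pts Scheme.fppfPrecoverage G ⟶ CGrpSh2.Gm Scheme.fppfPrecoverage (Spec (CommRingCat.of k))),
      CGrpSh.ptsMap Scheme.fppfPrecoverage i ≫ ξ = Module.finrank k L • χ := by
  obtain ⟨Q, _, _, _, _, w, hw, hw'⟩ := exists_hopf H
  obtain ⟨A, _, _, _, _, v, hv, hv'⟩ := exists_hopf G
  haveI := hw; haveI := hw'; haveI := hv; haveI := hv'
  obtain ⟨π, hπ⟩ := AntiAffLib.exists_bialgHom (w.hom ≫ i ≫ v.inv)
  haveI : IsMonHom (pt (π : A →ₐ[k] Q)) := SekSuwa.isMonHom_specHom π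
  haveI : IsAffine (sp k A).left := inferInstanceAs (IsAffine (Spec (CommRingCat.of A)))
  haveI : LocallyOfFiniteType (sp k A).hom :=
    (HasRingHomProperty.Spec_iff (P := @LocallyOfFiniteType) (φ := CommRingCat.ofHom (algebraMap k A))).2
      (RingHom.finiteType_algebraMap.2 inferInstance)
  haveI hci : IsClosedImmersion (pt (π : A →ₐ[k] Q)).left := by
    haveI : IsIso w.hom.left := inferInstanceAs (IsIso ((Over.forget _).map w.hom))
    haveI : IsIso v.inv.left := inferInstanceAs (IsIso ((Over.forget _).map v.inv))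
    rw [← hπ, Over.comp_left, Over.comp_left]; infer_instance
  haveI : Mono (pt (π : A →ₐ[k] Q)) := Over.mono_of_mono_left _
  have hn : AlgGrp.IsNormalHom (pt (π : A →ₐ[k] Q)) := fun T g n => ⟨n, by rw [mul_comm g, mul_inv_cancel_right]⟩
  obtain ⟨P, _, p, hP, hpm, ⟨hPft, hpf, hps⟩, hker⟩ := AntiAffLib.exists_affine_kernel' (pt (π : A →ₐ[k] Q)) hn
  haveI := hP; haveI := hpm; haveI := hPft; haveI := hpf; haveI := hps
  haveI : IsCommMonObj P := isCommMonObj_of_flat p
  haveI : LocallyOfFinitePresentation p.left := by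
    haveI : LocallyOfFinitePresentation P.hom := inferInstance
    haveI : LocallyOfFinitePresentation (p.left ≫ P.hom) := by rw [Over.w p]; infer_instance
    exact Groth.Agent.S12442.lfp_of_comp_lft p.left P.hom
  obtain ⟨w0, hses⟩ := shortExact_of_flat (pt (π : A →ₐ[k] Q)) p hker
  let χ' : GmVanishLib.shf (k := k) Q ⟶ GmExtLib.G (Spec (CommRingCat.of k)) :=
    CGrpSh.ptsMap Scheme.fppfPrecoverage w.hom ≫ χ
  obtain ⟨L, _, _, _, θ, hθ⟩ := exists_over_extension hses (liftsFld_pts P) χ'
  obtain ⟨ξ, hξ⟩ := exists_hom_of_over L θ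
  refine ⟨L, inferInstance, inferInstance, inferInstance, CGrpSh.ptsMap Scheme.fppfPrecoverage v.inv ≫ ξ, ?_⟩
  have h := hξ Q π χ' hθ
  have e : CGrpSh.ptsMap Scheme.fppfPrecoverage i ≫ CGrpSh.ptsMap Scheme.fppfPrecoverage v.inv =
      CGrpSh.ptsMap Scheme.fppfPrecoverage w.inv ≫ GmVanishLib.shfMap π := by
    refine Sheaf.hom_ext (NatTrans.ext (funext fun T => AddCommGrpCat.ext fun x => ULift.ext _ _ (congrArg Additive.ofMul ?_)))
    show (x.down.toMul ≫ i) ≫ v.inv = (x.down.toMul ≫ w.inv) ≫ pt (π : A →ₐ[k] Q)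
    rw [← hπ]
    simp only [Category.assoc, Iso.inv_hom_id_assoc]
  rw [← Category.assoc, e, Category.assoc, h, Preadditive.comp_nsmul]
  congr 1
  refine Sheaf.hom_ext (NatTrans.ext (funext fun T => AddCommGrpCat.ext fun x => ?_))
  show χ.hom.app T (ULift.up (Additive.ofMul ((x.down.toMul ≫ w.inv) ≫ w.hom))) = χ.hom.app T x
  rw [Category.assoc, Iso.inv_hom_id, Category.comp_id]
  rfl

end GmCharLib
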